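import Cfsg.Agent.Lib.Helper92.SUG.Defs

/-! # SUG (S2412): assembly (helper92) -/

set_option autoImplicit false

namespace Cfsg.Agent.Lib.Helper92.SUG

universe u

theorem full_top {F : Type u} [Field F] {n q : ℕ} (K : Subgroup ↥(Cfsg.SU n F q)) (h : Full K n) :
    K = ⊤ := by
  rw [eq_top_iff]
  intro g _
  exact h g (fun i j hij => by
    rcases hij with h1 | h1
    · exact absurd i.isLt (by omega)
    · exact absurd j.isLt (by omega))

theorem climb_of (hTrv : PkgTrv.{u}) (hClimbT : PkgClimbT.{u})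
    {F : Type u} [Field F] [Fintype F] {q n : ℕ} (hF : Fintype.card F = q ^ 2)
    (K : Subgroup ↥(Cfsg.SU n F q)) (m : ℕ) (hm : 3 ≤ m) (hmn : m ≤ n) (h0 : Full K m)
    (hstep : ∀ (k : ℕ) (hk : k < n), m ≤ k → Full K k →
        ∃ x : Fin n → F, Cfsg.hermForm n F q x x = 0 ∧ Wk (k + 1) x ∧ x ⟨k, hk⟩ ≠ 0 ∧ HasT K x) :
    K = ⊤ := by
  have key : ∀ d : ℕ, m + d ≤ n → Full K (m + d) := by
    intro d
    induction d with
    | zero => intro _; simpa using h0
    | succ d ih =>
      intro hd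
      have hk : m + d < n := by omega
      have hfull := ih (by omega)
      obtain ⟨x, hx0, hxW, hxk, hxT⟩ := hstep (m + d) hk (by omega) hfull
      have hall := hClimbT F q n (m + d) hF (by omega) hk K hfull x hx0 hxW hxk hxT
      have := hTrv F q n (m + d + 1) hF (by omega) (by omega) (Or.inl (by omega)) K hall
      simpa [Nat.add_assoc] using this
  have hn : Full K n := by
    have := key (n - m) (by omega)
    rwa [Nat.add_sub_cancel' hmn] at this
  exact full_top K hn

theorem main_of (hTrv : PkgTrv.{u}) (hClimbT : PkgClimbT.{u}) (hBase3 : PkgBase3.{u})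
    (hBase2 : PkgBase2.{u}) (hN3 : PkgN3.{u}) (hN42 : PkgN42.{u}) (hQuot : PkgQuot.{u})
    {F : Type u} [Field F] [Fintype F] {q : ℕ} (hq : IsPrimePow q)
    (hF : Fintype.card F = q ^ 2) (n : ℕ) (hn : 3 ≤ n) (h32 : n = 3 → q ≠ 2) :
    ∃ a b : Cfsg.PSU n F q, Subgroup.closure ({a, b} : Set (Cfsg.PSU n F q)) = ⊤ := by
  have hq2 : 2 ≤ q := hq.two_le
  by_cases hn3 : n = 3
  · subst hn3
    have : q ≠ 2 := h32 rfl
    exact hN3 F q hF (by omega)
  · have hn4 : 4 ≤ n := by omega
    by_cases hq3 : 3 ≤ q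
    · obtain ⟨a, b, h0, hstep⟩ := hBase3 F q n hF hq3 hn4
      refine hQuot F q n ⟨a, b, ?_⟩
      exact climb_of hTrv hClimbT hF _ 3 le_rfl (by omega) h0
        (fun k hk hk3 hfull => hstep k hk hk3 hfull)
    · have hq2' : q = 2 := by omega
      subst hq2'
      by_cases hn4' : n = 4
      · subst hn4'
        exact hN42 F hF
      · obtain ⟨a, b, h0, hstep⟩ := hBase2 F n hF (by omega)
        refine hQuot F 2 n ⟨a, b, ?_⟩
        exact climb_of hTrv hClimbT hF _ 4 (by omega) (by omega) h0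
          (fun k hk hk4 hfull => hstep k hk hk4 hfull)

end Cfsg.Agent.Lib.Helper92.SUG
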