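import Mathlib
import Cfsg.Prelude.Def_Classical
import Cfsg.Prelude.Def_ClassicalGeometry

/-!
# SUG (S2412): PSU_n(q) is generated by two elements — interface (helper92)

`mat g` is the matrix of `g : SU n F q`, `Wk k x` says that `x` is supported on the first `k`
coordinates, `Full K k` that `K` contains every element of `SU n F q` that is the identity outside
the top-left `k × k` block, `HasT K v` that `K` contains every element whose matrix is a unitary
transvection `unitaryTransvection n q v c` with centre `v`.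
-/

set_option autoImplicit false

namespace Cfsg.Agent.Lib.Helper92.SUG

universe u

/-- The matrix of an element of `SU n F q`. -/
def mat {F : Type u} [Field F] {n q : ℕ} (g : ↥(Cfsg.SU n F q)) : Matrix (Fin n) (Fin n) F :=
  ((g : Matrix.SpecialLinearGroup (Fin n) F) : Matrix (Fin n) (Fin n) F)

/-- `x` is supported on the first `k` coordinates. -/
def Wk {F : Type u} [Field F] {n : ℕ} (k : ℕ) (x : Fin n → F) : Prop :=
  ∀ i : Fin n, k ≤ i.val → x i = 0

/-- `K` contains every element of `SU n F q` that is the identity outside the top-left `k × k` block. -/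
def Full {F : Type u} [Field F] {n q : ℕ} (K : Subgroup ↥(Cfsg.SU n F q)) (k : ℕ) : Prop :=
  ∀ g : ↥(Cfsg.SU n F q),
    (∀ i j : Fin n, k ≤ i.val ∨ k ≤ j.val → mat g i j = (1 : Matrix (Fin n) (Fin n) F) i j) → g ∈ K

/-- `K` contains every element of `SU n F q` whose matrix is a transvection with centre `v`. -/
def HasT {F : Type u} [Field F] {n q : ℕ} (K : Subgroup ↥(Cfsg.SU n F q)) (v : Fin n → F) : Prop :=
  ∀ (c : F) (g : ↥(Cfsg.SU n F q)), mat g = Cfsg.unitaryTransvection n q v c → g ∈ K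

/-- [TRV] transvections centred in the first `k` coordinates generate the block `SU_k`. -/
def PkgTrv : Prop :=
  ∀ (F : Type u) [Field F] [Fintype F] (q n k : ℕ), Fintype.card F = q ^ 2 → 3 ≤ k → k ≤ n →
    (4 ≤ k ∨ 3 ≤ q) → ∀ K : Subgroup ↥(Cfsg.SU n F q),
      (∀ y : Fin n → F, Cfsg.hermForm n F q y y = 0 → Wk k y → HasT K y) → Full K k

/-- [CLIMBT] the block `SU_k` and one isotropic centre with non-zero `k`-th coordinate give all
isotropic centres in the first `k + 1` coordinates. -/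
def PkgClimbT : Prop :=
  ∀ (F : Type u) [Field F] [Fintype F] (q n k : ℕ), Fintype.card F = q ^ 2 → 2 ≤ k → ∀ hk : k < n,
    ∀ K : Subgroup ↥(Cfsg.SU n F q), Full K k →
      ∀ x : Fin n → F, Cfsg.hermForm n F q x x = 0 → Wk (k + 1) x → x ⟨k, hk⟩ ≠ 0 → HasT K x →
        ∀ y : Fin n → F, Cfsg.hermForm n F q y y = 0 → Wk (k + 1) y → HasT K y

/-- [BASE3] `q ≥ 3`, `n ≥ 4`: two elements whose closure contains the block `SU_3` and climbs. -/
def PkgBase3 : Prop :=
  ∀ (F : Type u) [Field F] [Fintype F] (q n : ℕ), Fintype.card F = q ^ 2 → 3 ≤ q → 4 ≤ n →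
    ∃ a b : ↥(Cfsg.SU n F q), Full (Subgroup.closure {a, b}) 3 ∧
      ∀ (k : ℕ) (hk : k < n), 3 ≤ k → Full (Subgroup.closure {a, b}) k →
        ∃ x : Fin n → F, Cfsg.hermForm n F q x x = 0 ∧ Wk (k + 1) x ∧ x ⟨k, hk⟩ ≠ 0 ∧
          HasT (Subgroup.closure {a, b}) x

/-- [BASE2] `q = 2`, `n ≥ 5`: two elements whose closure contains the block `SU_4` and climbs. -/
def PkgBase2 : Prop :=
  ∀ (F : Type u) [Field F] [Fintype F] (n : ℕ), Fintype.card F = 2 ^ 2 → 5 ≤ n →
    ∃ a b : ↥(Cfsg.SU n F 2), Full (Subgroup.closure {a, b}) 4 ∧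
      ∀ (k : ℕ) (hk : k < n), 4 ≤ k → Full (Subgroup.closure {a, b}) k →
        ∃ x : Fin n → F, Cfsg.hermForm n F 2 x x = 0 ∧ Wk (k + 1) x ∧ x ⟨k, hk⟩ ≠ 0 ∧
          HasT (Subgroup.closure {a, b}) x

/-- [N3] `PSU_3(q)`, `q ≥ 3` (from the landed S2283). -/
def PkgN3 : Prop :=
  ∀ (F : Type u) [Field F] [Fintype F] (q : ℕ), Fintype.card F = q ^ 2 → 3 ≤ q →
    ∃ a b : Cfsg.PSU 3 F q, Subgroup.closure ({a, b} : Set (Cfsg.PSU 3 F q)) = ⊤

/-- [N42] `PSU_4(2)` (from the landed S0822 and S2411). -/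
def PkgN42 : Prop :=
  ∀ (F : Type u) [Field F] [Fintype F], Fintype.card F = 2 ^ 2 →
    ∃ a b : Cfsg.PSU 4 F 2, Subgroup.closure ({a, b} : Set (Cfsg.PSU 4 F 2)) = ⊤

/-- [QUOT] two generators of `SU` give two generators of `PSU`. -/
def PkgQuot : Prop :=
  ∀ (F : Type u) [Field F] [Fintype F] (q n : ℕ),
    (∃ a b : ↥(Cfsg.SU n F q), Subgroup.closure ({a, b} : Set ↥(Cfsg.SU n F q)) = ⊤) →
      ∃ a b : Cfsg.PSU n F q, Subgroup.closure ({a, b} : Set (Cfsg.PSU n F q)) = ⊤

end Cfsg.Agent.Lib.Helper92.SUG
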