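import Cfsg.Agent.Lib.Helper92.SUG.Defs

/-!
# SUG (S2412): sub-interface for [BASE3] (`q ≥ 3`, `n ≥ 4`) (helper92)

`a = ι u`, `b = ι g * g₀`, where `u, g u g⁻¹` generate `SU_3` (S2283), `ι` is the block embedding
of `SU_3` on the first three coordinates, `v` is an isotropic vector fixed by `u`, and
`g₀ = E * σ` commutes with `ι u` (`E` the Siegel element `x ↦ x + h(x,v) e₃ - h(x,e₃) v + κ h(x,v) v`,
`σ` the signed cycle `e₃ → e₄ → … → e_{n-1} → ± e₃`).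
-/

set_option autoImplicit false

namespace Cfsg.Agent.Lib.Helper92.SUG

universe u

/-- [FIXV] a regular unipotent element of `SU_3` fixes a non-zero isotropic vector. -/
def PkgFixV : Prop :=
  ∀ (F : Type u) [Field F] [Fintype F] (q : ℕ), Fintype.card F = q ^ 2 →
    ∀ u : ↥(Cfsg.SU 3 F q), IsNilpotent (mat u - 1) → (mat u - 1) ^ 2 ≠ 0 →
      ∃ v : Fin 3 → F, v ≠ 0 ∧ (mat u).mulVec v = v ∧ Cfsg.hermForm 3 F q v v = 0

/-- [IOTA] the block embedding of `SU_3` on the first three coordinates, onto the block-3 elements. -/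
def PkgIota : Prop :=
  ∀ (F : Type u) [Field F] [Fintype F] (q n : ℕ), Fintype.card F = q ^ 2 → 3 ≤ n →
    ∃ ι : ↥(Cfsg.SU 3 F q) →* ↥(Cfsg.SU n F q),
      (∀ (s : ↥(Cfsg.SU 3 F q)) (i j : Fin n), mat (ι s) i j =
        if h : i.val < 3 ∧ j.val < 3 then mat s ⟨i.val, h.1⟩ ⟨j.val, h.2⟩
        else (1 : Matrix (Fin n) (Fin n) F) i j) ∧
      (∀ g : ↥(Cfsg.SU n F q),
        (∀ i j : Fin n, 3 ≤ i.val ∨ 3 ≤ j.val → mat g i j = (1 : Matrix (Fin n) (Fin n) F) i j) →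
          ∃ s, ι s = g)

/-- [G0] the mixing element `g₀ = E * σ` for an isotropic `v` in the first three coordinates. -/
def PkgG0 : Prop :=
  ∀ (F : Type u) [Field F] [Fintype F] (q n : ℕ), Fintype.card F = q ^ 2 → ∀ h4 : 4 ≤ n,
    ∀ v : Fin n → F, Wk 3 v → Cfsg.hermForm n F q v v = 0 →
      ∃ (g₀ : ↥(Cfsg.SU n F q)) (κ : F),
        (∀ x : Fin n → F, Wk 3 x → (mat g₀).mulVec x =
          x + Cfsg.hermForm n F q x v • (Pi.single (⟨3, by omega⟩ : Fin n) (1 : F) : Fin n → F)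
            + (κ * Cfsg.hermForm n F q x v) • v) ∧
        (∀ (k : ℕ) (hk : k < n), 4 ≤ k →
          (mat g₀).mulVec (Pi.single (⟨k - 1, by omega⟩ : Fin n) (1 : F) : Fin n → F) =
            (Pi.single (⟨k, hk⟩ : Fin n) (1 : F) : Fin n → F)) ∧
        (∀ t : ↥(Cfsg.SU n F q),
          (∀ i j : Fin n, 3 ≤ i.val ∨ 3 ≤ j.val → mat t i j = (1 : Matrix (Fin n) (Fin n) F) i j) →
            (mat t).mulVec v = v → g₀ * t = t * g₀)

/-- [B3ASM] target: the construction for given `u, g, v`. -/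
def PkgB3Core : Prop :=
  ∀ (F : Type u) [Field F] [Fintype F] (q n : ℕ), Fintype.card F = q ^ 2 → 4 ≤ n →
    ∀ (u g : ↥(Cfsg.SU 3 F q)) (v : Fin 3 → F), v ≠ 0 → (mat u).mulVec v = v →
      Cfsg.hermForm 3 F q v v = 0 →
      Subgroup.closure ({u, g * u * g⁻¹} : Set ↥(Cfsg.SU 3 F q)) = ⊤ →
      ∃ a b : ↥(Cfsg.SU n F q), Full (Subgroup.closure {a, b}) 3 ∧
        ∀ (k : ℕ) (hk : k < n), 3 ≤ k → Full (Subgroup.closure {a, b}) k →
          ∃ x : Fin n → F, Cfsg.hermForm n F q x x = 0 ∧ Wk (k + 1) x ∧ x ⟨k, hk⟩ ≠ 0 ∧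
            HasT (Subgroup.closure {a, b}) x

end Cfsg.Agent.Lib.Helper92.SUG
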